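import Groth.Agent.Lib.ProComplH28.OpenSub
import Groth.Prelude.Def_W4c61motalbdualityCompl
import Mathlib.Topology.Instances.AddCircle.Defs

/-! Exactness properties of completion by open finite-index subgroups. -/

open Topology Filter Set W4c61motalbduality

namespace Groth.Agent.Lib.ProComplH28

universe u v w

variable {A : Type u} [AddCommGroup A] [TopologicalSpace A] [IsTopologicalAddGroup A]
variable {B : Type v} [AddCommGroup B] [TopologicalSpace B] [IsTopologicalAddGroup B]
variable {C : Type w} [AddCommGroup C] [TopologicalSpace C] [IsTopologicalAddGroup C]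

lemma exists_compl_of_finite_satisfiable {ι : Type*} (idx : ι → OpenFI A)
    (S : ∀ j, Set (A ⧸ (idx j).toAddSubgroup))
    (h : ∀ F : Finset ι, ∃ a : A, ∀ j ∈ F, QuotientAddGroup.mk a ∈ S j) :
    ∃ x : FICompl A, ∀ j, x.1 (idx j) ∈ S j := by
  classical
  haveI hd : ∀ U : OpenFI A, DiscreteTopology (A ⧸ U.toAddSubgroup) :=
    fun U => QuotientAddGroup.discreteTopology U.isOpen'
  haveI hf : ∀ U : OpenFI A, Finite (A ⧸ U.toAddSubgroup) := fun U => by
    haveI := U.finiteIndex'
    exact AddSubgroup.finite_quotient_of_finiteIndex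
  let K : Set ((U : OpenFI A) → A ⧸ U.toAddSubgroup) := (FICompl A : Set _)
  have hK : IsClosed K := by
    have : K = ⋂ (U : OpenFI A) (V : OpenFI A) (hUV : U.toAddSubgroup ≤ V.toAddSubgroup),
        {x | QuotientAddGroup.map U.toAddSubgroup V.toAddSubgroup (AddMonoidHom.id A) hUV (x U) = x V} := by
      ext x; simp [K, FICompl]
    rw [this]
    exact isClosed_iInter fun U => isClosed_iInter fun V => isClosed_iInter fun _ =>
      isClosed_eq (continuous_of_discreteTopology.comp (continuous_apply U)) (continuous_apply V)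
  obtain ⟨x, hxK, hx⟩ := hK.isCompact.inter_iInter_nonempty (fun j => {x | x (idx j) ∈ S j})
    (fun j => (isClosed_discrete _).preimage (continuous_apply (idx j)))
    (fun F => by
      obtain ⟨a, ha⟩ := h F
      exact ⟨(toFICompl A a).1, (toFICompl A a).2, mem_iInter₂.mpr ha⟩)
  exact ⟨⟨x, hxK⟩, fun j => mem_iInter.mp hx j⟩

lemma finiteIndex_finsetInf (F : Finset (OpenFI A)) :
    (F.inf OpenFI.toAddSubgroup).FiniteIndex ∧ IsOpen ((F.inf OpenFI.toAddSubgroup : AddSubgroup A) : Set A) := by
  classical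
  induction F using Finset.induction with
  | empty => exact ⟨by simpa using (inferInstance : (⊤ : AddSubgroup A).FiniteIndex), by simp⟩
  | insert U F _ ih =>
    rw [Finset.inf_insert]
    haveI := U.finiteIndex'
    haveI := ih.1
    exact ⟨inferInstance, U.isOpen'.inter ih.2⟩

def finfi (F : Finset (OpenFI A)) : OpenFI A :=
  ⟨F.inf OpenFI.toAddSubgroup, (finiteIndex_finsetInf F).2, (finiteIndex_finsetInf F).1⟩

lemma finfi_le {F : Finset (OpenFI A)} {U : OpenFI A} (h : U ∈ F) :
    (finfi F).toAddSubgroup ≤ U.toAddSubgroup := Finset.inf_le (f := OpenFI.toAddSubgroup) h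

lemma map_apply_mk (f : A →+ B) (hf : Continuous f) (x : FICompl A) (V : OpenFI B) (a : A)
    (ha : x.1 (V.comap f hf) = QuotientAddGroup.mk a) :
    (FICompl.map f hf x).1 V = QuotientAddGroup.mk (f a) := by
  show QuotientAddGroup.map _ _ f _ (x.1 (V.comap f hf)) = _
  rw [ha]
  rfl

theorem compl_exact (i : A →+ B) (hi : Continuous i) (p : B →+ C) (hp : Continuous p)
    (hpo : IsOpenMap p) (hps : Function.Surjective p) (hex : p.ker = i.range) :
    Function.Surjective (FICompl.map p hp) ∧ (FICompl.map p hp).ker = (FICompl.map i hi).range := by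
  classical
  refine ⟨fun y => ?_, ?_⟩
  · obtain ⟨x, hx⟩ := exists_compl_of_finite_satisfiable (fun V : OpenFI C => V.comap p hp)
      (fun V => {q | QuotientAddGroup.map _ _ p (V.comap_le p) q = y.1 V}) (fun F => by
        obtain ⟨c, hc⟩ := QuotientAddGroup.mk_surjective (y.1 (finfi F))
        obtain ⟨b, rfl⟩ := hps c
        refine ⟨b, fun V hV => ?_⟩
        have := y.2 (finfi F) V (finfi_le hV)
        rw [← hc] at this
        exact this)
    exact ⟨x, Subtype.ext (funext hx)⟩
  · ext x
    constructor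
    · intro hx
      rw [AddMonoidHom.mem_ker] at hx
      obtain ⟨z, hz⟩ := exists_compl_of_finite_satisfiable (fun V : OpenFI B => V.comap i hi)
        (fun V => {q | QuotientAddGroup.map _ _ i (V.comap_le i) q = x.1 V}) (fun F => by
          let W := finfi F
          obtain ⟨b, hb⟩ := QuotientAddGroup.mk_surjective (x.1 W)
          let P : OpenFI C := ⟨W.toAddSubgroup.map p, hpo _ W.isOpen', ⟨fun h => by
            have h1 := AddSubgroup.index_map_dvd W.toAddSubgroup hps
            rw [h] at h1
            exact W.finiteIndex'.index_ne_zero (Nat.eq_zero_of_zero_dvd h1)⟩⟩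
          have hle : W.toAddSubgroup ≤ (P.comap p hp).toAddSubgroup :=
            fun w hw => AddSubgroup.mem_map_of_mem p hw
          have h1 : x.1 (P.comap p hp) = QuotientAddGroup.mk b := by
            rw [← x.2 W (P.comap p hp) hle, ← hb]; rfl
          have h2 : (QuotientAddGroup.mk (p b) : C ⧸ P.toAddSubgroup) = 0 := by
            rw [← map_apply_mk p hp x P b h1, hx]; rfl
          obtain ⟨w, hw, hwb⟩ := (QuotientAddGroup.eq_zero_iff _).mp h2
          have : b - w ∈ p.ker := by rw [AddMonoidHom.mem_ker, map_sub, hwb, sub_self]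
          rw [hex] at this
          obtain ⟨a, ha⟩ := this
          refine ⟨a, fun V hV => ?_⟩
          show (QuotientAddGroup.mk (i a) : B ⧸ V.toAddSubgroup) = x.1 V
          rw [← x.2 W V (finfi_le hV), ← hb]
          show (QuotientAddGroup.mk (i a) : B ⧸ V.toAddSubgroup) = QuotientAddGroup.mk b
          rw [QuotientAddGroup.eq_iff_sub_mem, ha]
          have : b - w - b = -w := by abel
          rw [this]
          exact neg_mem (finfi_le hV hw))
      exact ⟨z, Subtype.ext (funext hz)⟩
    · rintro ⟨z, rfl⟩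
      rw [AddMonoidHom.mem_ker]
      refine Subtype.ext (funext fun V => ?_)
      obtain ⟨a, ha⟩ := QuotientAddGroup.mk_surjective (z.1 ((V.comap p hp).comap i hi))
      rw [map_apply_mk p hp _ V (i a) (map_apply_mk i hi z (V.comap p hp) a ha.symm)]
      have : p (i a) = 0 := by
        have : i a ∈ p.ker := hex ▸ ⟨a, rfl⟩
        exact this
      rw [this]; rfl

theorem compl_injective [T2Space B] [LocallyCompactSpace B] [TotallyDisconnectedSpace B]
    (hcg : ∃ K : Set B, IsCompact K ∧ AddSubgroup.closure K = ⊤)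
    (i : A →+ B) (hi : Continuous i) (hind : IsInducing i) :
    Function.Injective (FICompl.map i hi) := by
  classical
  obtain ⟨K, hK, hgen⟩ := hcg
  rw [injective_iff_map_eq_zero]
  intro x hx
  refine Subtype.ext (funext fun U => ?_)
  obtain ⟨a₀, ha₀⟩ := QuotientAddGroup.mk_surjective (x.1 U)
  show x.1 U = 0
  by_contra hne
  -- a character separating `x U` from zero
  obtain ⟨χ₀, hχ₀⟩ := CharacterModule.exists_character_apply_ne_zero_of_ne_zero hne
  let χ : A →+ ℚ ⧸ AddSubgroup.zmultiples (1 : ℚ) := χ₀.comp (QuotientAddGroup.mk' U.toAddSubgroup)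
  have hχU : U.toAddSubgroup ≤ χ.ker := fun a ha => by
    show χ₀ (QuotientAddGroup.mk a) = 0
    rw [(QuotientAddGroup.eq_zero_iff a).mpr ha, map_zero]
  obtain ⟨ψ, hψo, hψ⟩ := exists_openKer_extension i hind χ (AddSubgroup.isOpen_mono hχU U.isOpen')
  haveI : DiscreteTopology (B ⧸ ψ.ker) := QuotientAddGroup.discreteTopology hψo
  -- finitely generated subgroup of `ℚ/ℤ`, hence finite
  have hfin : (ψ.ker).FiniteIndex := by
    have hfinK : (QuotientAddGroup.mk' ψ.ker '' K).Finite :=
      (hK.image QuotientAddGroup.continuous_mk).finite_of_discrete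
    haveI : AddGroup.FG (B ⧸ ψ.ker) := by
      rw [AddGroup.fg_iff]
      refine ⟨_, ?_, hfinK⟩
      rw [← AddMonoidHom.map_closure, hgen,
        AddSubgroup.map_top_of_surjective _ (QuotientAddGroup.mk'_surjective _)]
    have ht : AddMonoid.IsTorsion (B ⧸ ψ.ker) := by
      intro q
      have hinj := QuotientAddGroup.kerLift_injective ψ
      refine (hinj.isOfFinAddOrder_iff).mp ?_
      obtain ⟨r, hr⟩ := QuotientAddGroup.mk_surjective (QuotientAddGroup.kerLift ψ q)
      rw [isOfFinAddOrder_iff_nsmul_eq_zero]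
      refine ⟨r.den, r.pos, ?_⟩
      rw [← hr, ← QuotientAddGroup.mk_nsmul, QuotientAddGroup.eq_zero_iff,
        AddSubgroup.mem_zmultiples_iff]
      refine ⟨r.num, ?_⟩
      rw [nsmul_eq_mul, zsmul_eq_mul, mul_one, mul_comm, Rat.mul_den_eq_num]
    haveI : Finite (B ⧸ ψ.ker) := by
      haveI : Module.Finite ℤ (B ⧸ ψ.ker) := Module.Finite.iff_addGroup_fg.mpr inferInstance
      refine Module.finite_of_fg_torsion _ (fun {q} => ?_)
      obtain ⟨n, hn, hn0⟩ := (ht q).exists_nsmul_eq_zero
      exact ⟨⟨(n : ℤ), mem_nonZeroDivisors_of_ne_zero (by exact_mod_cast hn.ne')⟩,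
        by rw [Submonoid.mk_smul, natCast_zsmul, hn0]⟩
    exact AddSubgroup.finiteIndex_of_finite_quotient
  let V : OpenFI B := ⟨ψ.ker, hψo, hfin⟩
  have hV : (V.comap i hi).toAddSubgroup = χ.ker := by
    ext a
    rw [← hψ]
    rfl
  obtain ⟨a, ha⟩ := QuotientAddGroup.mk_surjective (x.1 ((finfi {U, V.comap i hi})))
  have h1 : x.1 U = QuotientAddGroup.mk a := by
    rw [← x.2 _ U (finfi_le (Finset.mem_insert_self _ _)), ← ha]; rfl
  have h2 : x.1 (V.comap i hi) = QuotientAddGroup.mk a := by
    rw [← x.2 _ (V.comap i hi) (finfi_le (Finset.mem_insert_of_mem (Finset.mem_singleton_self _))), ← ha]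
    rfl
  have h3 := map_apply_mk i hi x V a h2
  rw [hx] at h3
  have h4 : ψ (i a) = 0 := (QuotientAddGroup.eq_zero_iff (N := ψ.ker) (i a)).mp h3.symm
  apply hχ₀
  rw [h1]
  have := DFunLike.congr_fun hψ a
  simp only [AddMonoidHom.comp_apply] at this
  rw [h4] at this
  exact this.symm

end Groth.Agent.Lib.ProComplH28
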