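import Mathlib.Topology.Algebra.OpenSubgroup
import Mathlib.Topology.Separation.Profinite
import Mathlib.GroupTheory.FiniteAbelian.Basic
import Mathlib.Algebra.Module.CharacterModule

/-! Open subgroups in totally disconnected locally compact abelian groups (van Dantzig). -/

open Topology Filter Set
open scoped Pointwise

namespace Groth.Agent.Lib.ProComplH28

variable {G : Type*} [AddCommGroup G] [TopologicalSpace G] [IsTopologicalAddGroup G]

lemma exists_add_closure_nhd {W : Set G} (hWc : IsCompact W) (hWo : IsOpen W) :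
    ∃ T ∈ 𝓝 (0 : G), W + T ⊆ W := by
  apply hWc.induction_on (p := fun S ↦ ∃ T ∈ 𝓝 (0 : G), S + T ⊆ W)
    ⟨Set.univ, by simp⟩
    (fun _ _ huv ⟨T, hT, mem⟩ ↦ ⟨T, hT, (Set.add_subset_add_right huv).trans mem⟩)
    fun U V ⟨T₁, hT₁, mem1⟩ ⟨T₂, hT₂, mem2⟩ ↦ ⟨T₁ ∩ T₂, inter_mem hT₁ hT₂, by
      rw [Set.union_add]
      exact union_subset ((Set.add_subset_add_left inter_subset_left).trans mem1)
        ((Set.add_subset_add_left inter_subset_right).trans mem2)⟩
  intro x memW
  have : (x, (0:G)) ∈ (fun p : G × G ↦ p.1 + p.2) ⁻¹' W := by simpa using memW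
  rcases isOpen_prod_iff.mp (continuous_add.isOpen_preimage W hWo) x 0 this with
    ⟨U, V, Uopen, Vopen, xmemU, zeromemV, prodsub⟩
  refine ⟨U, mem_nhdsWithin_of_mem_nhds (Uopen.mem_nhds xmemU), V, Vopen.mem_nhds zeromemV, ?_⟩
  exact Set.add_subset_iff.mpr (fun _ hx _ hy ↦ prodsub (mk_mem_prod hx hy))

theorem exists_open_addSubgroup_subset [T2Space G] [LocallyCompactSpace G]
    [TotallyDisconnectedSpace G] {U : Set G} (hU : U ∈ 𝓝 (0 : G)) :
    ∃ H : AddSubgroup G, IsOpen (H : Set G) ∧ (H : Set G) ⊆ U := by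
  obtain ⟨C, hC, hCU, hCc⟩ := local_compact_nhds hU
  obtain ⟨W, hW, h0W, hWC⟩ := (loc_compact_Haus_tot_disc_of_zero_dim (H := G)).exists_subset_of_mem_open
    (mem_interior_iff_mem_nhds.mpr hC) isOpen_interior
  have hWC' : W ⊆ C := hWC.trans interior_subset
  have hWcomp : IsCompact W := hCc.of_isClosed_subset hW.1 hWC'
  obtain ⟨T, hT, hTW⟩ := exists_add_closure_nhd hWcomp hW.2
  let H : AddSubgroup G :=
    { carrier := {g | (∀ w ∈ W, w + g ∈ W) ∧ (∀ w ∈ W, w - g ∈ W)}
      add_mem' := fun {a b} ha hb => ⟨fun w hw => by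
          rw [← add_assoc]; exact hb.1 _ (ha.1 w hw), fun w hw => by
          rw [sub_add_eq_sub_sub]; exact hb.2 _ (ha.2 w hw)⟩
      zero_mem' := ⟨fun w hw => by simpa using hw, fun w hw => by simpa using hw⟩
      neg_mem' := fun {a} ha => ⟨fun w hw => by rw [← sub_eq_add_neg]; exact ha.2 w hw,
          fun w hw => by rw [sub_neg_eq_add]; exact ha.1 w hw⟩ }
  refine ⟨H, ?_, fun g hg => hCU (hWC' (by simpa using hg.1 0 h0W))⟩
  refine H.isOpen_of_mem_nhds (g := 0) ?_
  filter_upwards [hT, neg_mem_nhds_zero G hT] with g hg hg'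
  exact ⟨fun w hw => hTW (Set.add_mem_add hw hg),
    fun w hw => by rw [sub_eq_add_neg]; exact hTW (Set.add_mem_add hw (Set.mem_neg.mp hg'))⟩

/-- In a finitely generated abelian group, a nonzero element avoids some finite-index subgroup. -/
theorem exists_finiteIndex_notMem (Q : Type*) [AddCommGroup Q] [AddGroup.FG Q] (q : Q) (hq : q ≠ 0) :
    ∃ S : AddSubgroup Q, S.FiniteIndex ∧ q ∉ S := by
  classical
  obtain ⟨n, ι, _, p, hp, e, ⟨f⟩⟩ := AddCommGroup.equiv_free_prod_directSum_zmod Q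
  by_cases h1 : (f q).1 = 0
  · let g : Q →+ DirectSum ι fun i ↦ ZMod (p i ^ e i) := (AddMonoidHom.snd _ _).comp f.toAddMonoidHom
    have : Finite (DirectSum ι fun i ↦ ZMod (p i ^ e i)) := by
      haveI : ∀ i, NeZero (p i ^ e i) := fun i => ⟨pow_ne_zero _ (hp i).ne_zero⟩
      exact Finite.of_equiv _ (DirectSum.addEquivProd _).toEquiv.symm
    refine ⟨g.ker, inferInstance, fun h => hq ?_⟩
    apply f.injective
    rw [map_zero]
    exact Prod.ext h1 h
  · obtain ⟨i, hi⟩ : ∃ i, (f q).1 i ≠ 0 := by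
      by_contra hc
      push Not at hc
      exact h1 (Finsupp.ext (fun i => by simpa using hc i))
    obtain ⟨m, hm⟩ : ∃ m : ℕ, m = ((f q).1 i).natAbs + 1 := ⟨_, rfl⟩
    haveI : NeZero m := ⟨by omega⟩
    let g : Q →+ ZMod m := (Int.castAddHom (ZMod m)).comp
      ((Finsupp.applyAddHom i).comp ((AddMonoidHom.fst _ _).comp f.toAddMonoidHom))
    refine ⟨g.ker, inferInstance, fun h => hi ?_⟩
    have h' : (((f q).1 i : ℤ) : ZMod m) = 0 := h
    rw [ZMod.intCast_zmod_eq_zero_iff_dvd] at h'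
    exact Int.eq_zero_of_dvd_of_natAbs_lt_natAbs h' (by rw [Int.natAbs_natCast]; omega)

theorem exists_finiteIndex_open_notMem [T2Space G] [LocallyCompactSpace G]
    [TotallyDisconnectedSpace G] {K : Set G} (hK : IsCompact K) (hgen : AddSubgroup.closure K = ⊤)
    (b : G) (hb : b ≠ 0) :
    ∃ B' : AddSubgroup G, IsOpen (B' : Set G) ∧ B'.FiniteIndex ∧ b ∉ B' := by
  obtain ⟨U, hUo, hUb⟩ := exists_open_addSubgroup_subset (isOpen_ne.mem_nhds hb.symm)
  let π := QuotientAddGroup.mk' U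
  haveI : DiscreteTopology (G ⧸ U) := QuotientAddGroup.discreteTopology hUo
  have hfin : (π '' K).Finite := (hK.image QuotientAddGroup.continuous_mk).finite_of_discrete
  haveI : AddGroup.FG (G ⧸ U) := by
    rw [AddGroup.fg_iff]
    refine ⟨π '' K, ?_, hfin⟩
    rw [← AddMonoidHom.map_closure, hgen, AddSubgroup.map_top_of_surjective _ (QuotientAddGroup.mk'_surjective U)]
  have hq : π b ≠ 0 := fun h => hUb ((QuotientAddGroup.eq_zero_iff b).mp h) rfl
  obtain ⟨S, hS, hbS⟩ := exists_finiteIndex_notMem _ (π b) hq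
  refine ⟨S.comap π, ?_, ⟨by rw [S.index_comap_of_surjective (QuotientAddGroup.mk'_surjective U)]; exact hS.index_ne_zero⟩, hbS⟩
  exact (isOpen_discrete (S : Set (G ⧸ U))).preimage QuotientAddGroup.continuous_mk

theorem exists_openKer_extension [T2Space G] [LocallyCompactSpace G]
    [TotallyDisconnectedSpace G] {A : Type*} [AddCommGroup A] [TopologicalSpace A]
    (i : A →+ G) (hind : IsInducing i)
    (χ : A →+ ℚ ⧸ AddSubgroup.zmultiples (1 : ℚ)) (hχ : IsOpen (χ.ker : Set A)) :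
    ∃ ψ : G →+ ℚ ⧸ AddSubgroup.zmultiples (1 : ℚ), IsOpen (ψ.ker : Set G) ∧ ψ.comp i = χ := by
  obtain ⟨V, hVo, hV⟩ := hind.isOpen_iff.mp hχ
  have h0 : (0 : G) ∈ V := by
    have : (0 : A) ∈ i ⁻¹' V := by rw [hV]; exact χ.ker.zero_mem
    simpa using this
  obtain ⟨U, hUo, hUV⟩ := exists_open_addSubgroup_subset (hVo.mem_nhds h0)
  have hker : U.comap i ≤ χ.ker := fun a ha => by
    have : a ∈ i ⁻¹' V := hUV ha
    rw [hV] at this
    exact this
  let f : A ⧸ U.comap i →+ G ⧸ U := QuotientAddGroup.map _ U i le_rfl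
  have hf : Function.Injective f := by
    rw [injective_iff_map_eq_zero]
    intro x
    induction x using QuotientAddGroup.induction_on with
    | H a =>
      intro h
      rw [QuotientAddGroup.map_mk, QuotientAddGroup.eq_zero_iff] at h
      rwa [QuotientAddGroup.eq_zero_iff]
  let χ' : A ⧸ U.comap i →+ ℚ ⧸ AddSubgroup.zmultiples (1 : ℚ) := QuotientAddGroup.lift _ χ hker
  obtain ⟨ψ', hψ'⟩ := (Module.Baer.of_divisible (ℚ ⧸ AddSubgroup.zmultiples (1 : ℚ))).extension_property_addMonoidHom f hf χ'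
  refine ⟨ψ'.comp (QuotientAddGroup.mk' U), AddSubgroup.isOpen_mono (fun u hu => ?_) hUo, ?_⟩
  · rw [AddMonoidHom.mem_ker, AddMonoidHom.comp_apply, QuotientAddGroup.mk'_apply,
      (QuotientAddGroup.eq_zero_iff u).mpr hu, map_zero]
  · ext a
    have := DFunLike.congr_fun hψ' (QuotientAddGroup.mk a)
    simpa [f, χ'] using this

end Groth.Agent.Lib.ProComplH28
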