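import Mathlib.Topology.Algebra.Category.ProfiniteGrp.Completion
import Mathlib.Algebra.Module.CharacterModule
import Mathlib.Topology.Instances.AddCircle.Defs
import Mathlib.GroupTheory.Index

/-! Profinite completion of discrete abelian groups: exactness. -/

open CategoryTheory ProfiniteGrp Set Function

namespace Groth.Agent.Lib.ProComplH28

universe u

variable {A B : Type u} [CommGroup A] [CommGroup B]

/-- Completion of a homomorphism. -/
noncomputable def pmap (f : A →* B) :
    ProfiniteCompletion.completion (GrpCat.of A) →ₜ* ProfiniteCompletion.completion (GrpCat.of B) :=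
  (ProfiniteCompletion.lift (GrpCat.ofHom f ≫ ProfiniteCompletion.eta _)).hom

/-- Component of a completion element. -/
def pc {A : Type u} [CommGroup A] (N : FiniteIndexNormalSubgroup A)
    (x : ProfiniteCompletion.completion (GrpCat.of A)) : A ⧸ N.toSubgroup := x.1 N

lemma pc_ext {A : Type u} [CommGroup A] {x y : ProfiniteCompletion.completion (GrpCat.of A)}
    (h : ∀ N, pc N x = pc N y) : x = y := Subtype.ext (funext h)

lemma pc_compat {A : Type u} [CommGroup A] {M N : FiniteIndexNormalSubgroup A} (h : M ≤ N)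
    (x : ProfiniteCompletion.completion (GrpCat.of A)) :
    QuotientGroup.map M.toSubgroup N.toSubgroup (MonoidHom.id A) h (pc M x) = pc N x :=
  x.2 (homOfLE h)

lemma pmap_eta (f : A →* B) (a : A) :
    pmap f (ProfiniteCompletion.etaFn (GrpCat.of A) a) = ProfiniteCompletion.etaFn (GrpCat.of B) (f a) :=
  ConcreteCategory.congr_hom (ProfiniteCompletion.lift_eta (GrpCat.ofHom f ≫ ProfiniteCompletion.eta _)) a

lemma pmap_apply (f : A →* B) (N : FiniteIndexNormalSubgroup B) (M : FiniteIndexNormalSubgroup A)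
    (h : M.toSubgroup ≤ N.toSubgroup.comap f) (x : ProfiniteCompletion.completion (GrpCat.of A)) :
    pc N (pmap f x) = QuotientGroup.map M.toSubgroup N.toSubgroup f h (pc M x) := by
  letI : TopologicalSpace (B ⧸ N.toSubgroup) := ⊥
  haveI : DiscreteTopology (B ⧸ N.toSubgroup) := ⟨rfl⟩
  letI : TopologicalSpace (A ⧸ M.toSubgroup) := ⊥
  haveI : DiscreteTopology (A ⧸ M.toSubgroup) := ⟨rfl⟩
  refine congrFun ((ProfiniteCompletion.denseRange (GrpCat.of A)).equalizer
    (g := fun x => pc N (pmap f x))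
    (h := fun x => QuotientGroup.map M.toSubgroup N.toSubgroup f h (pc M x)) ?_ ?_ ?_) x
  · exact (continuous_apply N).comp (continuous_subtype_val.comp (pmap f).continuous_toFun)
  · have hc : Continuous (pc M : _ → A ⧸ M.toSubgroup) :=
      (continuous_apply M).comp continuous_subtype_val
    exact (continuous_of_discreteTopology
      (f := QuotientGroup.map M.toSubgroup N.toSubgroup f h)).comp hc
  · funext a
    exact congrArg (pc N) (pmap_eta f a)

lemma isClosed_range_pmap (f : A →* B) : IsClosed (Set.range (pmap f)) :=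
  (isCompact_range (pmap f).continuous_toFun).isClosed

lemma surjective_pmap {f : A →* B} (hf : Surjective f) : Surjective (pmap f) := by
  rw [← Set.range_eq_univ, ← (isClosed_range_pmap f).closure_eq]
  refine (Dense.mono ?_ (ProfiniteCompletion.denseRange (GrpCat.of B))).closure_eq
  rintro _ ⟨b, rfl⟩
  obtain ⟨a, rfl⟩ := hf b
  exact ⟨_, pmap_eta f a⟩

/-- Density criterion: it suffices to approximate at every finite level. -/
lemma mem_range_pmap (f : A →* B) (x : ProfiniteCompletion.completion (GrpCat.of B))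
    (h : ∀ N : FiniteIndexNormalSubgroup B, ∃ a : A, QuotientGroup.mk (f a) = pc N x) :
    x ∈ Set.range (pmap f) := by
  rw [← (isClosed_range_pmap f).closure_eq, mem_closure_iff]
  rintro U ⟨s, hsO, rfl⟩ hxU
  obtain ⟨J, t, ht, hJs⟩ := isOpen_pi_iff.mp hsO _ hxU
  let M : Subgroup B := ⨅ j : J, j.val.toSubgroup
  haveI : M.FiniteIndex := Subgroup.finiteIndex_iInf fun j => j.val.isFiniteIndex'
  let m : FiniteIndexNormalSubgroup B := FiniteIndexNormalSubgroup.ofSubgroup M
  obtain ⟨a, ha⟩ := h m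
  refine ⟨pmap f (ProfiniteCompletion.etaFn _ a), ?_, ⟨_, rfl⟩⟩
  rw [pmap_eta]
  refine hJs fun j hj => ?_
  have hle : m ≤ j := (iInf_le (fun j : J => j.val.toSubgroup) ⟨j, hj⟩ : M ≤ _)
  have e : pc j (ProfiniteCompletion.etaFn (GrpCat.of B) (f a)) = pc j x := by
    rw [← pc_compat hle x, ← ha]; rfl
  show pc j (ProfiniteCompletion.etaFn (GrpCat.of B) (f a)) ∈ t j
  rw [e]
  exact (ht j hj).2

theorem pmap_exact (A' : Subgroup A) :
    Surjective (pmap (QuotientGroup.mk' A')) ∧
      (pmap (QuotientGroup.mk' A')).toMonoidHom.ker = (pmap A'.subtype).toMonoidHom.range := by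
  refine ⟨surjective_pmap (QuotientGroup.mk'_surjective A'), ?_⟩
  ext x
  constructor
  · intro hx
    refine mem_range_pmap _ x fun M => ?_
    haveI := M.isFiniteIndex'
    obtain ⟨a, ha⟩ := QuotientGroup.mk_surjective (pc M x)
    let P : FiniteIndexNormalSubgroup (A ⧸ A') :=
      @FiniteIndexNormalSubgroup.ofSubgroup _ _ (M.toSubgroup.map (QuotientGroup.mk' A')) _ ⟨fun h => by
        have h1 := Subgroup.index_map_dvd M.toSubgroup (QuotientGroup.mk'_surjective A')
        rw [h] at h1
        exact M.isFiniteIndex'.index_ne_zero (Nat.eq_zero_of_zero_dvd h1)⟩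
    have h1 := pmap_apply (QuotientGroup.mk' A') P M (fun a ha => Subgroup.mem_map_of_mem _ ha) x
    rw [show pmap (QuotientGroup.mk' A') x = 1 from hx, ← ha] at h1
    obtain ⟨m, hm, hma⟩ := (QuotientGroup.eq_one_iff (N := P.toSubgroup) _).mp h1.symm
    refine ⟨⟨a * m⁻¹, ?_⟩, ?_⟩
    · rw [← QuotientGroup.eq_one_iff, QuotientGroup.mk_mul, QuotientGroup.mk_inv]
      exact mul_inv_eq_one.mpr hma.symm
    · rw [← ha, QuotientGroup.eq]
      show (a * m⁻¹)⁻¹ * a ∈ M.toSubgroup
      rw [show (a * m⁻¹)⁻¹ * a = m by group]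
      exact hm
  · rintro ⟨z, rfl⟩
    refine pc_ext fun N => ?_
    let M : FiniteIndexNormalSubgroup A := N.comap (QuotientGroup.mk' A')
    let M' : FiniteIndexNormalSubgroup A' := M.comap A'.subtype
    show pc N (pmap (QuotientGroup.mk' A') (pmap A'.subtype z)) = 1
    rw [pmap_apply _ N M le_rfl, pmap_apply _ M M' le_rfl]
    obtain ⟨c, hc⟩ := QuotientGroup.mk_surjective (pc M' z)
    rw [← hc]
    show (QuotientGroup.mk (QuotientGroup.mk' A' (c : A)) : (A ⧸ A') ⧸ N.toSubgroup) = 1
    rw [show QuotientGroup.mk' A' (c : A) = 1 from (QuotientGroup.eq_one_iff _).mpr c.2]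
    rfl

/-- An element of finite order which is not an `n`-th power survives in some finite quotient. -/
lemma exists_finiteIndex_notMem_of_bounded (G : Type*) [CommGroup G] (n : ℕ) (hn : 0 < n) (g : G)
    (hg : ∀ y : G, y ^ n ≠ g) : ∃ S : Subgroup G, S.FiniteIndex ∧ g ∉ S := by
  let P : AddSubgroup (Additive G) := (nsmulAddMonoidHom n).range
  have hne : (QuotientAddGroup.mk (Additive.ofMul g) : Additive G ⧸ P) ≠ 0 := by
    rw [Ne, QuotientAddGroup.eq_zero_iff]
    rintro ⟨y, hy⟩
    exact hg y.toMul (congrArg Additive.toMul hy)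
  obtain ⟨χ₀, hχ₀⟩ := CharacterModule.exists_character_apply_ne_zero_of_ne_zero hne
  let χ : Additive G →+ AddCircle (1 : ℚ) := χ₀.comp (QuotientAddGroup.mk' P)
  have hfin : (Set.range χ).Finite := by
    refine (AddCircle.finite_torsion (1 : ℚ) hn).subset ?_
    rintro _ ⟨y, rfl⟩
    show n • χ y = 0
    rw [← map_nsmul]
    show χ₀ (QuotientAddGroup.mk (n • y)) = 0
    rw [(QuotientAddGroup.eq_zero_iff _).mpr (show n • y ∈ P from ⟨y, rfl⟩), map_zero]
  haveI : Finite χ.range := hfin.to_subtype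
  haveI : Finite (Additive G ⧸ χ.ker) :=
    Finite.of_equiv _ (QuotientAddGroup.quotientKerEquivRange χ).toEquiv.symm
  haveI : χ.ker.FiniteIndex := AddSubgroup.finiteIndex_of_finite_quotient
  refine ⟨AddSubgroup.toSubgroup' χ.ker, ⟨?_⟩, fun h => hχ₀ h⟩
  exact (AddSubgroup.FiniteIndex.index_ne_zero (H := χ.ker))

theorem pmap_injective (A' : Subgroup A)
    (htors : ∃ N : ℕ, 0 < N ∧ ∀ x : A ⧸ A', IsOfFinOrder x → x ^ N = 1) :
    Injective (pmap A'.subtype) := by
  obtain ⟨N, hN, htors⟩ := htors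
  rw [injective_iff_map_eq_one]
  intro x hx
  refine pc_ext fun M => ?_
  show pc M x = 1
  haveI := M.isFiniteIndex'
  obtain ⟨c, hc⟩ := QuotientGroup.mk_surjective (pc M x)
  by_contra hne
  let k := M.toSubgroup.index
  have hk : 0 < k := Nat.pos_of_ne_zero M.isFiniteIndex'.index_ne_zero
  let M₀ : Subgroup A := M.toSubgroup.map A'.subtype
  let g : A ⧸ M₀ := QuotientGroup.mk (c : A)
  obtain ⟨S, hS, hgS⟩ := exists_finiteIndex_notMem_of_bounded (A ⧸ M₀) (N * k) (Nat.mul_pos hN hk) g
    (fun y hy => by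
      obtain ⟨y, rfl⟩ := QuotientGroup.mk_surjective y
      rw [← QuotientGroup.mk_pow, QuotientGroup.eq] at hy
      obtain ⟨m, hm, hmy⟩ := hy
      have hmem : (y ^ (N * k) : A) ∈ A' := by
        have h2 : (y ^ (N * k) : A) = (c : A) * (A'.subtype m)⁻¹ := by rw [hmy]; group
        rw [h2]
        exact A'.mul_mem c.2 (A'.inv_mem m.2)
      have hfo : IsOfFinOrder (QuotientGroup.mk y : A ⧸ A') := by
        rw [isOfFinOrder_iff_pow_eq_one]
        exact ⟨N * k, Nat.mul_pos hN hk, by rw [← QuotientGroup.mk_pow, QuotientGroup.eq_one_iff]; exact hmem⟩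
      have hyN : y ^ N ∈ A' := by
        rw [← QuotientGroup.eq_one_iff, QuotientGroup.mk_pow]; exact htors _ hfo
      have hpow : (⟨y ^ N, hyN⟩ : A') ^ k ∈ M.toSubgroup := M.toSubgroup.pow_index_mem _
      have hcm : (⟨y ^ N, hyN⟩ : A') ^ k * m = c := by
        apply Subtype.ext
        show (y ^ N) ^ k * A'.subtype m = (c : A)
        rw [hmy, ← pow_mul]
        group
      apply hne
      rw [← hc, QuotientGroup.eq_one_iff, ← hcm]
      exact M.toSubgroup.mul_mem hpow hm)
  let T : FiniteIndexNormalSubgroup A :=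
    @FiniteIndexNormalSubgroup.ofSubgroup _ _ (S.comap (QuotientGroup.mk' M₀)) _
      ⟨by rw [S.index_comap_of_surjective (QuotientGroup.mk'_surjective M₀)]; exact hS.index_ne_zero⟩
  have hle : M.toSubgroup ≤ T.toSubgroup.comap A'.subtype := fun m hm => by
    show QuotientGroup.mk' M₀ (m : A) ∈ S
    rw [show QuotientGroup.mk' M₀ (m : A) = 1 from
      (QuotientGroup.eq_one_iff _).mpr ⟨m, hm, rfl⟩]
    exact S.one_mem
  have h1 := pmap_apply A'.subtype T M hle x
  rw [hx, ← hc] at h1
  exact hgS ((QuotientGroup.eq_one_iff (N := T.toSubgroup) (c : A)).mp h1.symm)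

end Groth.Agent.Lib.ProComplH28
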